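import Groth.Agent.CurvSt.K169.UCov
import Groth.Agent.CurvSt.K508.SmLocus

/-!
# Universal closedness of `Mbar S g n` from a proper complete family over the integers (helper169)

* `exists_surjective_of_hom` : an object hitting all field-valued points up to field extension gives a surjective functor.
* `HitsStable g f σ` : every stable `n`-pointed curve of genus `g` over a field is, after a field extension, a fibre.
* `PF g n` : there is such a stable family over a scheme proper over the integers.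
* `isUnivClosed_of_pf` : for any base scheme `S`.
-/

set_option autoImplicit false
set_option backward.isDefEq.respectTransparency false
set_option backward.isDefEq.respectTransparency.types false

universe v₂ u₂ v u

open CategoryTheory CategoryTheory.Limits AlgebraicGeometry Opposite

namespace K169.Transfer

/-- An object `A` over `U` such that every field-valued point maps to `A` after a field extension defines a surjective
functor. -/
theorem exists_surjective_of_hom {S : Scheme.{u}} {𝒳 : BasedCategory.{v₂, u₂} (Over S)} (h𝒳 : FibCat.IsFibGrpd 𝒳.p)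
    (A : 𝒳.obj) {U : Over S} (hA : 𝒳.p.obj A = U)
    (H : ∀ p : AlgSt.FPt 𝒳, ∃ (r : AlgSt.FPt 𝒳) (_ : r.obj ⟶ p.obj) (_ : r.obj ⟶ A), True) :
    ∃ (y : FibCat.overCat U ⥤ᵇ 𝒳), Function.Surjective (AlgSt.Points.map y) ∧ Nonempty (y.obj (Over.mk (𝟙 U)) ≅ A) := by
  obtain ⟨y, e, he⟩ := K734.Fib.exists_yo h𝒳 A hA
  refine ⟨y, fun z => ?_, ⟨e⟩⟩
  obtain ⟨p, rfl⟩ := AlgSt.Points.mk_surjective z
  obtain ⟨r, a, m, -⟩ := H p
  have hx : 𝒳.p.obj r.obj = Over.mk r.str := r.lies
  -- the classifying morphism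
  let g : (Over.mk r.str : Over S) ⟶ U := eqToHom hx.symm ≫ 𝒳.p.map m ≫ eqToHom hA
  let G : (FibCat.overCat U).obj := Over.mk g
  have hm : 𝒳.p.IsHomLift g m := by
    refine IsHomLift.of_fac 𝒳.p g m hx hA ?_
    rfl
  have hy : 𝒳.p.IsHomLift g (y.map (K734.Fib.toOne G) ≫ e.hom) := by
    have h1 : (FibCat.overCat U).p.IsHomLift g (K734.Fib.toOne G) := IsHomLift.map (FibCat.overCat U).p (K734.Fib.toOne G)
    have h2 : 𝒳.p.IsHomLift g (y.map (K734.Fib.toOne G)) := inferInstance
    have h3 : 𝒳.p.IsHomLift (𝟙 U) e.hom := by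
      refine IsHomLift.of_fac 𝒳.p (𝟙 U) e.hom (y.w_obj _) hA ?_
      rw [he.map_eq]
      simp
    have h4 : 𝒳.p.IsHomLift (g ≫ 𝟙 U) (y.map (K734.Fib.toOne G) ≫ e.hom) := inferInstance
    rwa [Category.comp_id] at h4
  obtain ⟨χ, -, -⟩ := K734.Fib.exists_fac' h𝒳 (g := 𝟙 _) hy (by rw [Category.id_comp]; exact hm)
  refine ⟨AlgSt.Points.mk { K := r.K, str := r.str, obj := G, lies := rfl }, ?_⟩
  exact AlgSt.Points.sound ⟨r, χ, a, trivial⟩

open CurvSt

/-- Every stable pointed curve of genus `g` over a field is, after a field extension, a fibre of the family. -/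
def HitsStable (g : ℕ) {n : ℕ} {C Z : Scheme.{u}} (f : C ⟶ Z) (σ : Fin n → (Z ⟶ C)) : Prop :=
  ∀ (k : Type u) [Field k] (X : Scheme.{u}) (q : X ⟶ Spec (CommRingCat.of k)) (x : Fin n → (Spec (CommRingCat.of k) ⟶ X))
    (hx : ∀ i, x i ≫ q = 𝟙 _), IsStableFam q x hx g →
    ∃ (L : Type u) (_ : Field L) (ι : k →+* L) (z : Spec (CommRingCat.of L) ⟶ Z) (X' : Scheme.{u})
      (q' : X' ⟶ Spec (CommRingCat.of L)) (x' : Fin n → (Spec (CommRingCat.of L) ⟶ X')) (_ : ∀ i, x' i ≫ q' = 𝟙 _)
      (i : X' ⟶ C) (i₀ : X' ⟶ X),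
      IsPullback i q' f z ∧ IsPullback i₀ q' q (Spec.map (CommRingCat.ofHom ι)) ∧
        (∀ j, x' j ≫ i = z ≫ σ j) ∧ ∀ j, x' j ≫ i₀ = Spec.map (CommRingCat.ofHom ι) ≫ x j

/-- There is a stable `n`-pointed family of genus `g` over a scheme proper over the integers which is complete: all
stable curves over fields occur in it after a field extension. -/
def PF (g n : ℕ) : Prop :=
  ∃ (C Z : Scheme.{u}) (f : C ⟶ Z) (σ : Fin n → (Z ⟶ C)) (hσ : ∀ i, σ i ≫ f = 𝟙 Z),
    IsProper (specULiftZIsTerminal.from Z) ∧ IsStableFam f σ hσ g ∧ HitsStable g f σ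

variable {g n : ℕ}

/-- Base change of a complete proper family to any base. -/
theorem exists_cover (h : PF.{u} g n) (S : Scheme.{u}) (h𝒳 : FibCat.IsFibGrpd (Mbar S g n).p) :
    ∃ (B : Over S) (_ : IsProper B.hom) (y : FibCat.overCat B ⥤ᵇ Mbar S g n), Function.Surjective (AlgSt.Points.map y) := by
  obtain ⟨C, Z, f, σ, hσ, hZ, hst, hits⟩ := h
  let V' : Scheme.{u} := pullback (specULiftZIsTerminal.from Z) (specULiftZIsTerminal.from S)
  let b : V' ⟶ Z := pullback.fst _ _
  let s : V' ⟶ S := pullback.snd _ _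
  let C' : Scheme.{u} := pullback f b
  let a : C' ⟶ C := pullback.fst f b
  let f' : C' ⟶ V' := pullback.snd f b
  have sq : IsPullback a f' f b := IsPullback.of_hasPullback _ _
  let σ' : Fin n → (V' ⟶ C') := fun i => sq.lift (b ≫ σ i) (𝟙 _)
    (by rw [Category.assoc, hσ, Category.comp_id, Category.id_comp])
  have hσ' : ∀ i, σ' i ≫ f' = 𝟙 _ := fun i => sq.lift_snd _ _ _
  have hσ'a : ∀ i, σ' i ≫ a = b ≫ σ i := fun i => sq.lift_fst _ _ _
  let A₀ : PtFamObj S n := { base := Over.mk s, C := C', f := f', sect := σ', sect_f := hσ' }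
  let A : (Mbar S g n).obj := ⟨A₀, K508.SmLocus.isStableFam_of_isPullback hσ' hst sq hσ'a⟩
  obtain ⟨y, hy, -⟩ := exists_surjective_of_hom (U := Over.mk s) h𝒳 A rfl (fun p => by
    obtain ⟨k, str, obj, lies⟩ := p
    obtain ⟨⟨base, X, q, x, hx⟩, hX⟩ := obj
    change base = Over.mk str at lies
    subst lies
    change X ⟶ Spec (CommRingCat.of k) at q
    change Fin n → (Spec (CommRingCat.of k) ⟶ X) at x
    change ∀ k', x k' ≫ q = 𝟙 (Spec (CommRingCat.of k)) at hx
    change IsStableFam q x hx g at hX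
    obtain ⟨L, _, ι, z, X', q', x', hx', i, i₀, h1, h2, h3, h4⟩ := hits k X q x hx hX
    have hX' : IsStableFam q' x' hx' g := K508.SmLocus.isStableFam_of_isPullback hx' hst h1 h3
    let g₂ : Spec (CommRingCat.of L) ⟶ V' := pullback.lift z (Spec.map (CommRingCat.ofHom ι) ≫ str)
      (specULiftZIsTerminal.hom_ext _ _)
    have hg₂b : g₂ ≫ b = z := pullback.lift_fst _ _ _
    have hg₂s : g₂ ≫ s = Spec.map (CommRingCat.ofHom ι) ≫ str := pullback.lift_snd _ _ _
    have hw : i ≫ f = (q' ≫ g₂) ≫ b := by rw [Category.assoc, hg₂b, h1.w]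
    let i' : X' ⟶ C' := sq.lift i (q' ≫ g₂) hw
    have hi'a : i' ≫ a = i := sq.lift_fst _ _ _
    have hi'f : i' ≫ f' = q' ≫ g₂ := sq.lift_snd _ _ _
    have hsq' : IsPullback i' q' f' g₂ := by
      refine IsPullback.of_right (h₁₂ := a) (v₁₃ := f) (h₂₂ := b) ?_ hi'f sq
      rw [hi'a, hg₂b]
      exact h1
    let r₀ : PtFamObj S n :=
      { base := Over.mk (Spec.map (CommRingCat.ofHom ι) ≫ str), C := X', f := q', sect := x', sect_f := hx' }
    refine ⟨{ K := L, str := Spec.map (CommRingCat.ofHom ι) ≫ str, obj := ⟨r₀, hX'⟩, lies := rfl }, ?_, ?_, trivial⟩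
    · exact ⟨{ base := Over.homMk (Spec.map (CommRingCat.ofHom ι)) rfl
               top := i₀
               cart := h2
               w_sect := fun j => h4 j }⟩
    · exact ⟨{ base := Over.homMk g₂ hg₂s
               top := i'
               cart := hsq'
               w_sect := fun k => by
                change x' k ≫ i' = g₂ ≫ σ' k
                apply sq.hom_ext
                · rw [Category.assoc, hi'a, h3 k, Category.assoc, hσ'a, reassoc_of% hg₂b]
                · rw [Category.assoc, hi'f, Category.assoc, hσ', reassoc_of% hx' k]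
                  exact (Category.comp_id _).symm }⟩)
  have hs : IsProper s := inferInstance
  exact ⟨Over.mk s, hs, y, hy⟩

/-- `Mbar S g n` is universally closed over any base `S` if there is a complete stable family over a scheme proper over the
integers. -/
theorem isUnivClosed_of_pf {K : Precoverage Scheme.{u}} (h : PF.{u} g n) (S : Scheme.{u})
    (hov : ∀ V : Over S, AlgSt.IsAlgStack K (FibCat.overCat V)) (h𝒳 : AlgSt.IsAlgStack K (Mbar S g n)) :
    AlgSt.IsUnivClosed K (FibCat.toSelf (Mbar S g n)) := by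
  obtain ⟨B, hB, y, hy⟩ := exists_cover h S h𝒳.isStack.1
  exact UCov.isUnivClosed_of_cover (K734.Rep.isPrestack_selfOver _) hov h𝒳 inferInstance y hy

theorem isUnivClosed_fppf (h : PF.{u} g n) (S : Scheme.{u})
    (h𝒳 : AlgSt.IsAlgStack Scheme.fppfPrecoverage (Mbar S g n)) :
    AlgSt.IsUnivClosed Scheme.fppfPrecoverage (FibCat.toSelf (Mbar S g n)) :=
  isUnivClosed_of_pf h S (fun V => K744.AlgOver.isAlgStack_overCat V) h𝒳

theorem isUnivClosed_et (h : PF.{u} g n) (S : Scheme.{u})
    (h𝒳 : AlgSt.IsAlgStack Scheme.etalePrecoverage (Mbar S g n)) :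
    AlgSt.IsUnivClosed Scheme.etalePrecoverage (FibCat.toSelf (Mbar S g n)) :=
  isUnivClosed_of_pf h S (fun V => K735.DvrMain.isAlgStack_overCat_et V) h𝒳

end K169.Transfer
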