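import Groth.Agent.CurvSt.K169.PStack
import Groth.Agent.CurvSt.K169.Transfer
import Groth.Agent.CurvSt.K508.ConnPts
import Groth.Agent.CurvSt.K742.PreFam

/-!
# A complete stable family over a scheme proper over the integers (helper169)

* `mem_range_iff`, `isOpen_range` : the points of an open locus.
* `SRsm g n` : stable reduction for smooth `n`-pointed curves of genus `g` over discrete valuation rings.
* `liftStk_of_srsm` : the valuative criterion for `Mbar S g n` on the smooth locus.
* `pf_of_dense` : `PF g n` from separatedness, finite type, `SRsm g n` and density of the smooth locus over the integers.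
* `srsm_of_s3333` : `SRsm g n` from semistable reduction and `StModel g n` (pointed stable models over the same ring).
-/

set_option autoImplicit false
set_option backward.isDefEq.respectTransparency false
set_option backward.isDefEq.respectTransparency.types false

universe v₂ u₂ v u

open CategoryTheory CategoryTheory.Limits AlgebraicGeometry Opposite CurvSt

namespace K169.PFMbar

open K169.SchD K169.PStack K169.Transfer K508.SmLocus K508.ConnPts K901.OpenSub

section locus

variable {S : Scheme.{u}} {𝒳 : BasedCategory.{v₂, u₂} (Over S)} {Q : 𝒳.obj → Prop}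

theorem mem_range_iff (h𝒳 : FibCat.IsFibGrpd 𝒳.p) (h : OpenLocus 𝒳 Q) (p : AlgSt.FPt 𝒳) :
    AlgSt.Points.mk p ∈ Set.range (AlgSt.Points.map (AlgSt.subIncl 𝒳 Q)) ↔ Q p.obj := by
  constructor
  · rintro ⟨d, hd⟩
    obtain ⟨q, rfl⟩ := AlgSt.Points.mk_surjective d
    rw [AlgSt.Points.map_mk] at hd
    exact of_mk_eq h𝒳 h hd.symm q.obj.property
  · intro hp
    exact ⟨AlgSt.Points.mk { K := p.K, str := p.str, obj := ⟨p.obj, hp⟩, lies := p.lies }, rfl⟩

theorem isOpen_range (h𝒳 : FibCat.IsFibGrpd 𝒳.p) (h : OpenLocus 𝒳 Q) :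
    IsOpen (Set.range (AlgSt.Points.map (AlgSt.subIncl 𝒳 Q))) := by
  intro U x _
  obtain ⟨W, hW⟩ := h.chart x
  have h1 : AlgSt.Points.ofChart x ⁻¹' Set.range (AlgSt.Points.map (AlgSt.subIncl 𝒳 Q)) = (W : Set U.left) := by
    ext t
    let g : (FibCat.overCat U).obj := Over.mk (Over.homMk (U.left.fromSpecResidueField t) rfl :
      Over.mk (U.left.fromSpecResidueField t ≫ U.hom) ⟶ U)
    have h2 : AlgSt.Points.ofChart x t ∈ Set.range (AlgSt.Points.map (AlgSt.subIncl 𝒳 Q)) ↔ Q (x.obj g) :=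
      mem_range_iff h𝒳 h _
    rw [Set.mem_preimage, h2, hW]
    have h3 : Set.range g.hom.left = {t} := by
      change Set.range (U.left.fromSpecResidueField t) = {t}
      exact Scheme.range_fromSpecResidueField t
    rw [h3, Set.singleton_subset_iff]
  rw [h1]
  exact W.isOpen

end locus

/-- Stable reduction for smooth pointed curves: after an extension of discrete valuation rings a smooth `n`-pointed
curve of genus `g` over the fraction field has a stable model. -/
def SRsm (g n : ℕ) : Prop :=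
  ∀ (R : Type u) [CommRing R] [IsDomain R] [IsDiscreteValuationRing R] (C : Scheme.{u})
    (f : C ⟶ Spec (CommRingCat.of (FractionRing R))) (x : Fin n → (Spec (CommRingCat.of (FractionRing R)) ⟶ C))
    (_ : ∀ j, x j ≫ f = 𝟙 _), IsSmoothPtdFam f x g →
    ∃ (R' : Type u) (_ : CommRing R') (_ : IsDomain R') (_ : IsDiscreteValuationRing R') (φ : R →+* R')
      (_ : IsLocalHom φ) (ψ : FractionRing R →+* FractionRing R')
      (_ : ψ.comp (algebraMap R (FractionRing R)) = (algebraMap R' (FractionRing R')).comp φ)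
      (C' : Scheme.{u}) (f' : C' ⟶ Spec (CommRingCat.of R')) (σ : Fin n → (Spec (CommRingCat.of R') ⟶ C'))
      (hσ : ∀ j, σ j ≫ f' = 𝟙 _) (X : Scheme.{u}) (a : X ⟶ C) (q : X ⟶ Spec (CommRingCat.of (FractionRing R')))
      (i : X ⟶ C') (y : Fin n → (Spec (CommRingCat.of (FractionRing R')) ⟶ X)),
      IsStableFam f' σ hσ g ∧ IsPullback a q f (Spec.map (CommRingCat.ofHom ψ)) ∧ IsPullback i q f' (gen R') ∧
        ∀ j, y j ≫ q = 𝟙 _ ∧ y j ≫ a = Spec.map (CommRingCat.ofHom ψ) ≫ x j ∧ y j ≫ i = gen R' ≫ σ j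

variable {g n : ℕ}

/-- The valuative criterion for `Mbar S g n` on the smooth locus. -/
theorem liftStk_of_srsm (h : SRsm.{u} g n) (S : Scheme.{u}) (h𝒳 : FibCat.IsFibGrpd (Mbar S g n).p) :
    LiftStk (Mbar S g n) (Set.range (AlgSt.Points.map (AlgSt.subIncl (Mbar S g n) (Sm S g n)))) := by
  intro R _ _ _ α x hx hmem
  have hsm : Sm S g n x := (mem_range_iff h𝒳 (openLocus S g n) ⟨FractionRing R, gen R ≫ α, x, hx⟩).1 hmem
  obtain ⟨⟨base, C, f, x, hx'⟩, hst⟩ := x
  change base = Over.mk (gen R ≫ α) at hx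
  subst hx
  change C ⟶ Spec (CommRingCat.of (FractionRing R)) at f
  change Fin n → (Spec (CommRingCat.of (FractionRing R)) ⟶ C) at x
  change ∀ j, x j ≫ f = 𝟙 (Spec (CommRingCat.of (FractionRing R))) at hx'
  change IsSmoothPtdFam f x g at hsm
  obtain ⟨R', _, _, _, φ, _, ψ, hψ, C', f', σ, hσ, X, a, q, i, y, h1, h2, h3, h4⟩ := h R C f x hx' hsm
  have hgen : gen R' ≫ Spec.map (CommRingCat.ofHom φ) = Spec.map (CommRingCat.ofHom ψ) ≫ gen R := by
    rw [← Spec.map_comp, ← Spec.map_comp, ← CommRingCat.ofHom_comp, ← CommRingCat.ofHom_comp, hψ]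
  let gψ : (Over.mk (gen R' ≫ Spec.map (CommRingCat.ofHom φ) ≫ α) : Over S) ⟶ Over.mk (gen R ≫ α) :=
    Over.homMk (Spec.map (CommRingCat.ofHom ψ)) (by
      change Spec.map (CommRingCat.ofHom ψ) ≫ gen R ≫ α = gen R' ≫ Spec.map (CommRingCat.ofHom φ) ≫ α
      rw [reassoc_of% hgen])
  have hX : IsStableFam q y (fun j => (h4 j).1) g := isStableFam_of_isPullback _ h1 h3 fun j => (h4 j).2.2
  let c₀ : PtFamObj S n :=
    { base := Over.mk (Spec.map (CommRingCat.ofHom φ) ≫ α), C := C', f := f', sect := σ, sect_f := hσ }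
  let x₀ : PtFamObj S n :=
    { base := Over.mk (gen R' ≫ Spec.map (CommRingCat.ofHom φ) ≫ α), C := X, f := q, sect := y,
      sect_f := fun j => (h4 j).1 }
  refine ⟨R', inferInstance, inferInstance, inferInstance, φ, inferInstance, ψ, hψ, gψ, rfl, ⟨c₀, h1⟩, ⟨x₀, hX⟩, rfl,
    rfl, ⟨{ base := Over.homMk (gen R') rfl, top := i, cart := h3, w_sect := fun j => (h4 j).2.2 }⟩,
    ⟨{ base := gψ, top := a, cart := h2, w_sect := fun j => (h4 j).2.1 }⟩, ?_, ?_⟩
  · rw [eqToHom_refl, eqToHom_refl, Category.id_comp, Category.comp_id]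
    rfl
  · rw [eqToHom_refl, eqToHom_refl, Category.id_comp, Category.comp_id]
    rfl

/-- The spectrum of the integers, in any universe. -/
noncomputable abbrev SZ : Scheme.{u} := Spec (CommRingCat.of (ULift.{u} ℤ))

/-- A proper cover of `Mbar` over the integers gives a complete family over a scheme proper over the integers. -/
theorem pf_of_cover (h𝒳 : FibCat.IsFibGrpd (Mbar SZ.{u} g n).p) {B : Over SZ.{u}} (hB : IsProper B.hom)
    (y : FibCat.overCat B ⥤ᵇ Mbar SZ.{u} g n) (hy : Function.Surjective (AlgSt.Points.map y)) : PF.{u} g n := by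
  let A := y.obj (K735.Fp.idObj B)
  have hA : A.obj.base = B := y.w_obj (K735.Fp.idObj B)
  refine ⟨A.obj.C, A.obj.base.left, A.obj.f, A.obj.sect, A.obj.sect_f, ?_, A.property, ?_⟩
  · have e : specULiftZIsTerminal.from A.obj.base.left = A.obj.base.hom := specULiftZIsTerminal.hom_ext _ _
    rw [e, hA]
    exact hB
  · intro k _ X q x hx hX
    let p : AlgSt.FPt (Mbar SZ.{u} g n) :=
      { K := k
        str := specULiftZIsTerminal.from _
        obj := ⟨{ base := Over.mk (specULiftZIsTerminal.from _), C := X, f := q, sect := x, sect_f := hx }, hX⟩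
        lies := rfl }
    obtain ⟨w, hw⟩ := hy (AlgSt.Points.mk p)
    obtain ⟨w, rfl⟩ := AlgSt.Points.mk_surjective w
    rw [AlgSt.Points.map_mk] at hw
    obtain ⟨r, a, b, -⟩ := (K735.Pts.mk_eq_mk_iff h𝒳).1 hw
    let a' : r.obj ⟶ A := a ≫ y.map (K735.Fp.toId w.obj)
    obtain ⟨L, str, obj, lies⟩ := r
    obtain ⟨⟨base, X', q', x', hx'⟩, hX'⟩ := obj
    change base = Over.mk str at lies
    subst lies
    let bl : Spec (CommRingCat.of L) ⟶ Spec (CommRingCat.of k) := b.hom.base.left
    have hbl : Spec.map (CommRingCat.ofHom (Spec.preimage bl).hom) = bl := Spec.map_preimage bl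
    refine ⟨L, inferInstance, (Spec.preimage bl).hom, a'.hom.base.left, X', q', x', hx', a'.hom.top, b.hom.top,
      a'.hom.cart, ?_, fun j => a'.hom.w_sect j, fun j => ?_⟩
    · rw [hbl]
      exact b.hom.cart
    · rw [hbl]
      exact b.hom.w_sect j

/-- The complete proper family, from the properties of `Mbar` over the integers. -/
theorem pf_of_dense (hDM : AlgSt.IsDM Scheme.etalePrecoverage (Mbar SZ.{u} g n))
    (hsep : AlgSt.IsSeparatedOver (Mbar SZ.{u} g n))
    (hft : AlgSt.LocQ (AlgSp.LocP @LocallyOfFiniteType) (FibCat.toSelf (Mbar SZ.{u} g n)))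
    (hqc : AlgSt.IsQuasiCompact (Mbar SZ.{u} g n))
    (hden : Dense (Set.range (AlgSt.Points.map (AlgSt.subIncl (Mbar SZ.{u} g n) (Sm SZ.{u} g n)))))
    (h : SRsm.{u} g n) : PF.{u} g n := by
  have hZ : IsNoetherianRing (ULift.{u} ℤ) := isNoetherianRing_of_ringEquiv ℤ ULift.ringEquiv.symm
  have hZ' : IsNoetherian SZ.{u} := inferInstance
  have g𝒳 : FibCat.IsFibGrpd (Mbar SZ.{u} g n).p := hDM.1.isStack.1
  obtain ⟨B, hB, y, hy⟩ := exists_proper_cover hDM hsep hft hqc _ (isOpen_range g𝒳 (openLocus _ g n)) hden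
    (liftStk_of_srsm h _ g𝒳)
  exact pf_of_cover g𝒳 hB y hy

end K169.PFMbar
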