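import Groth.Agent.S0384
import Groth.Agent.AlgSt.K735.DvrSpec

/-!
# Properness of the closure of an open subset from a valuative criterion (helper169)

`K169.SchD.exists_proper` : `f : Z ⟶ S` separated of finite type, `S` Noetherian, `V ⊆ Z` open such that for every discrete
valuation ring `R`, every square `Spec (Frac R) ⟶ V ⊆ Z`, `Spec R ⟶ S` has, after an extension `R ⟶ R'` of discrete
valuation rings, a lift `Spec R' ⟶ Z`.  Then the closure of `V` in `Z` is proper over `S`.
-/

set_option autoImplicit false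

universe u

open CategoryTheory CategoryTheory.Limits AlgebraicGeometry

namespace K169.SchD

/-- The generic point of the spectrum of a domain. -/
noncomputable abbrev gen (R : Type u) [CommRing R] : Spec (CommRingCat.of (FractionRing R)) ⟶ Spec (CommRingCat.of R) :=
  Spec.map (CommRingCat.ofHom (algebraMap R (FractionRing R)))

instance isDominant_gen (R : Type u) [CommRing R] [IsDomain R] : IsDominant (gen R) := by
  refine ⟨?_⟩
  change DenseRange (PrimeSpectrum.comap (algebraMap R (FractionRing R)))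
  exact (PrimeSpectrum.denseRange_comap_iff_ker_le_nilRadical _).2
    ((RingHom.injective_iff_ker_eq_bot _).1 (IsFractionRing.injective R (FractionRing R)) ▸ bot_le)

/-- The lifting property for squares whose generic point lies in `V`. -/
def LiftOn {Z S : Scheme.{u}} (f : Z ⟶ S) (V : Set Z) : Prop :=
  ∀ (R : Type u) [CommRing R] [IsDomain R] [IsDiscreteValuationRing R] (α : Spec (CommRingCat.of R) ⟶ S)
    (κ : Spec (CommRingCat.of (FractionRing R)) ⟶ Z), Set.range κ ⊆ V → κ ≫ f = gen R ≫ α →
    ∃ (R' : Type u) (_ : CommRing R') (_ : IsDomain R') (_ : IsDiscreteValuationRing R') (φ : R →+* R')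
      (_ : IsLocalHom φ) (ψ : FractionRing R →+* FractionRing R')
      (_ : ψ.comp (algebraMap R (FractionRing R)) = (algebraMap R' (FractionRing R')).comp φ)
      (β : Spec (CommRingCat.of R') ⟶ Z),
      β ≫ f = Spec.map (CommRingCat.ofHom φ) ≫ α ∧ gen R' ≫ β = Spec.map (CommRingCat.ofHom ψ) ≫ κ

theorem exists_proper {Z S : Scheme.{u}} [IsNoetherian S] (f : Z ⟶ S) [IsSeparated f] [LocallyOfFiniteType f]
    [QuasiCompact f] (V : Z.Opens) (H : LiftOn f (V : Set Z)) :
    ∃ (Z₁ : Scheme.{u}) (i : Z₁ ⟶ Z), IsClosedImmersion i ∧ IsProper (i ≫ f) ∧ closure (V : Set Z) ⊆ Set.range i := by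
  obtain ⟨Zc, j, g, hj, hjq, hg, rfl⟩ := Groth.Agent.S0384.result f
  have hN : IsLocallyNoetherian Zc := LocallyOfFiniteType.isLocallyNoetherian g
  have hcZ : CompactSpace Z := QuasiCompact.compactSpace_of_compactSpace (j ≫ g)
  have hN' : IsLocallyNoetherian Z := LocallyOfFiniteType.isLocallyNoetherian j
  have hN'' : IsNoetherian Z := { }
  have hVc : CompactSpace V := by
    have := (TopologicalSpace.NoetherianSpace.isCompact (V : Set Z))
    exact isCompact_iff_compactSpace.1 this
  have hcZc : CompactSpace Zc := QuasiCompact.compactSpace_of_compactSpace g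
  have hNc : IsNoetherian Zc := { }
  let q : (V : Scheme.{u}) ⟶ Zc := V.ι ≫ j
  have hq : QuasiCompact q := inferInstance
  let I := Scheme.IdealSheafData.vanishingIdeal (⟨closure (Set.range q), isClosed_closure⟩ : TopologicalSpace.Closeds Zc)
  have hI : Set.range I.subschemeι = closure (Set.range q) := by
    rw [Scheme.IdealSheafData.range_subschemeι]
    rfl
  have key : closure (Set.range q) ⊆ Set.range j := by
    intro z' hz'
    obtain ⟨v, hv⟩ := Groth.Agent.Fdesc.QuasiCompactTop.exists_specializes_of_mem_closure_range q z' hz'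
    obtain ⟨R, _, _, _, α, κ, hκ, -, hα⟩ := K735.DvrSpec.exists_dvr q v z' hv
    obtain ⟨R', _, _, _, φ, _, ψ, hψ, β, hβ1, hβ2⟩ := H R (α ≫ g) (κ ≫ V.ι) (by
      rintro _ ⟨s, rfl⟩
      have h1 : (κ ≫ V.ι) s = V.ι (κ s) := Scheme.Hom.comp_apply _ _ _
      have h2 : V.ι (κ s) ∈ Set.range V.ι := ⟨_, rfl⟩
      rw [Scheme.Opens.range_ι] at h2
      rw [h1]
      exact h2) (by
      rw [Category.assoc, ← Category.assoc V.ι j g, ← Category.assoc κ, hκ, Category.assoc])
    have h1 : β ≫ j = Spec.map (CommRingCat.ofHom φ) ≫ α := by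
      refine ext_of_isDominant_of_isSeparated g (ι := gen R') (by simpa using hβ1) ?_
      rw [reassoc_of% hβ2]
      have h2 : gen R' ≫ Spec.map (CommRingCat.ofHom φ) = Spec.map (CommRingCat.ofHom ψ) ≫ gen R := by
        rw [← Spec.map_comp, ← Spec.map_comp, ← CommRingCat.ofHom_comp, ← CommRingCat.ofHom_comp, hψ]
      rw [reassoc_of% h2, ← hκ]
    refine ⟨β (IsLocalRing.closedPoint R'), ?_⟩
    rw [← Scheme.Hom.comp_apply, h1, Scheme.Hom.comp_apply]
    have h3 : (Spec.map (CommRingCat.ofHom φ)) (IsLocalRing.closedPoint R') = IsLocalRing.closedPoint R :=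
      IsLocalRing.comap_closedPoint φ
    rw [h3, hα]
  let ℓ : I.subscheme ⟶ Z := IsOpenImmersion.lift j I.subschemeι (hI.subset.trans key)
  have hℓ : ℓ ≫ j = I.subschemeι := IsOpenImmersion.lift_fac _ _ _
  have hc : IsClosedImmersion (ℓ ≫ j) := by rw [hℓ]; infer_instance
  refine ⟨I.subscheme, ℓ, IsClosedImmersion.of_comp ℓ j, ?_, ?_⟩
  · rw [← Category.assoc, hℓ]
    infer_instance
  · have h1 : IsClosed (Set.range ℓ) := (IsClosedImmersion.of_comp ℓ j).isClosedEmbedding.isClosed_range
    refine closure_minimal ?_ h1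
    intro z hz
    have h2 : j z ∈ Set.range I.subschemeι := by
      rw [hI]
      refine subset_closure ⟨(⟨z, hz⟩ : V), ?_⟩
      exact Scheme.Hom.comp_apply _ _ _
    obtain ⟨w, hw⟩ := h2
    refine ⟨w, j.isOpenEmbedding.injective ?_⟩
    rw [← Scheme.Hom.comp_apply, hℓ]
    exact hw

end K169.SchD
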