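import Groth.Agent.CurvSt.K508.ZarProp
import Groth.Agent.AlgSt.K734.Wna3
import Groth.Agent.S16819
import Groth.Agent.CurvSt.K169.SchD

/-!
# Proper scheme covers of separated Deligne–Mumford stacks from a valuative criterion on a dense open subset (helper169)

* `LiftStk 𝒳 V₀` : the valuative criterion (discrete valuation rings, with extensions) for objects over the fraction field
  whose point lies in `V₀ ⊆ |𝒳|`.
* `exists_proper_cover` : `S` Noetherian, `𝒳` a separated Deligne–Mumford stack of finite type over `S`, `V₀ ⊆ |𝒳|` open and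
  dense with `LiftStk 𝒳 V₀`.  Then there are a scheme `B` proper over `S` and `y : (Sch/B) ⟶ 𝒳` surjective on points.
-/

set_option autoImplicit false
set_option backward.isDefEq.respectTransparency false
set_option backward.isDefEq.respectTransparency.types false

universe v₂ u₂ v u

open CategoryTheory CategoryTheory.Limits AlgebraicGeometry Opposite K735.Fib K735.Fp K735.Pts K735.PtsSp K735.Top

namespace K169.PStack

open K169.SchD

/-- A section of a proper morphism over the spectrum of a valuation ring from a point over the fraction field. -/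
theorem exists_section {R : Type u} [CommRing R] [IsDomain R] [ValuationRing R] {W : Scheme.{u}}
    (π : W ⟶ Spec (CommRingCat.of R)) [IsProper π] (k : Spec (CommRingCat.of (FractionRing R)) ⟶ W)
    (hk : k ≫ π = gen R) : ∃ s : Spec (CommRingCat.of R) ⟶ W, s ≫ π = 𝟙 _ ∧ gen R ≫ s = k := by
  have h1 : (@UniversallyClosed : MorphismProperty Scheme.{u}) π := inferInstance
  rw [UniversallyClosed.eq_valuativeCriterion] at h1
  have hsq : CommSq k (gen R) π (𝟙 (Spec (CommRingCat.of R))) := ⟨by rw [hk, Category.comp_id]⟩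
  obtain ⟨⟨l⟩⟩ := h1.1 { R := R, K := FractionRing R, i₁ := k, i₂ := 𝟙 _, commSq := hsq }
  exact ⟨l.l, l.fac_right, l.fac_left⟩

section

variable {S : Scheme.{u}}

/-- The field-valued points of a slice. -/
theorem mk_overCat {Z : Over S} {K : Type u} [Field K] (s : Spec (CommRingCat.of K) ⟶ S)
    (κ : (Over.mk s : Over S) ⟶ Z) (t : ↥(Over.mk s : Over S).left) :
    AlgSt.Points.mk (𝒳 := FibCat.overCat Z) ⟨K, s, Over.mk κ, rfl⟩ =
      AlgSt.Points.ofChart (BasedFunctor.id (FibCat.overCat Z)) (κ.left t) := by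
  rw [← K735.ClosedLim.map_overMap, map_ofChart]
  symm
  refine mk_eq_of_hom (𝒳 := FibCat.overCat Z) ?_
  exact Over.homMk (Over.homMk ((Over.mk s).left.fromSpecResidueField t) rfl) rfl

/-- The valuative criterion with extensions for points in `V₀`. -/
def LiftStk (𝒳 : BasedCategory.{v₂, u₂} (Over S)) (V₀ : Set (AlgSt.Points 𝒳)) : Prop :=
  ∀ (R : Type u) [CommRing R] [IsDomain R] [IsDiscreteValuationRing R] (α : Spec (CommRingCat.of R) ⟶ S)
    (x : 𝒳.obj) (hx : 𝒳.p.obj x = Over.mk (gen R ≫ α)),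
    AlgSt.Points.mk ⟨FractionRing R, gen R ≫ α, x, hx⟩ ∈ V₀ →
    ∃ (R' : Type u) (_ : CommRing R') (_ : IsDomain R') (_ : IsDiscreteValuationRing R') (φ : R →+* R')
      (_ : IsLocalHom φ) (ψ : FractionRing R →+* FractionRing R')
      (_ : ψ.comp (algebraMap R (FractionRing R)) = (algebraMap R' (FractionRing R')).comp φ)
      (gψ : (Over.mk (gen R' ≫ Spec.map (CommRingCat.ofHom φ) ≫ α) : Over S) ⟶ Over.mk (gen R ≫ α))
      (_ : gψ.left = Spec.map (CommRingCat.ofHom ψ))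
      (c x' : 𝒳.obj) (hc : 𝒳.p.obj c = Over.mk (Spec.map (CommRingCat.ofHom φ) ≫ α))
      (hx' : 𝒳.p.obj x' = Over.mk (gen R' ≫ Spec.map (CommRingCat.ofHom φ) ≫ α)) (m₁ : x' ⟶ c) (m₂ : x' ⟶ x),
      𝒳.p.map m₁ = eqToHom hx' ≫ (Over.homMk (gen R') rfl :
          (Over.mk (gen R' ≫ Spec.map (CommRingCat.ofHom φ) ≫ α) : Over S) ⟶
            Over.mk (Spec.map (CommRingCat.ofHom φ) ≫ α)) ≫ eqToHom hc.symm ∧
        𝒳.p.map m₂ = eqToHom hx' ≫ gψ ≫ eqToHom hx.symm

variable {𝒳 : AlgSt.Cat S}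

open K734.KM in
/-- The valuative criterion for the source of a finite chart. -/
theorem liftOn_of_liftStk (h𝒳 : FibCat.IsFibGrpd 𝒳.p) {V₀ : Set (AlgSt.Points 𝒳)} (hlift : LiftStk 𝒳 V₀) {Z : Over S}
    (z : FibCat.overCat Z ⥤ᵇ 𝒳) (hz : AlgSt.RepByAlgSpWith AlgSp.IsFiniteMor z) :
    LiftOn Z.hom (AlgSt.Points.ofChart z ⁻¹' V₀) := by
  intro R _ _ _ α κ hκV hκ
  let κ' : (Over.mk (gen R ≫ α) : Over S) ⟶ Z := Over.homMk κ hκ
  let B₀ : (FibCat.overCat Z).obj := Over.mk κ'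
  have hmem : AlgSt.Points.mk ⟨FractionRing R, gen R ≫ α, z.obj B₀, z.w_obj B₀⟩ ∈ V₀ := by
    have h1 : AlgSt.Points.mk ⟨FractionRing R, gen R ≫ α, z.obj B₀, z.w_obj B₀⟩ =
        AlgSt.Points.ofChart z (κ (IsLocalRing.closedPoint (FractionRing R))) :=
      congrArg (AlgSt.Points.map z) (mk_overCat (gen R ≫ α) κ' (IsLocalRing.closedPoint (FractionRing R)))
    rw [h1]
    exact hκV ⟨_, rfl⟩
  obtain ⟨R', _, _, _, φ, _, ψ, hψ, gψ, hgψ, c, x', hc, hx', m₁, m₂, e₁, e₂⟩ := hlift R α (z.obj B₀) (z.w_obj B₀) hmem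
  let B' : (FibCat.overCat Z).obj := Over.mk (gψ ≫ κ')
  let β' : B' ⟶ B₀ := Over.homMk gψ rfl
  have hβ' : 𝒳.p.map (z.map β') = eqToHom (z.w_obj B') ≫ gψ ≫ eqToHom (z.w_obj B₀).symm := map_map z β'
  obtain ⟨θ, hθ1, hθ2⟩ := exists_hom h𝒳 m₂ (z.map β') (eqToHom ((z.w_obj B').trans hx'.symm)) (by
    rw [hβ', e₂]
    simp)
  obtain ⟨r, hr⟩ := exists_repAtF_fin z h𝒳 hz c
  obtain ⟨k, hk, -⟩ := r.lift B' (θ ≫ m₁)
  let T' : Over S := Over.mk (Spec.map (CommRingCat.ofHom φ) ≫ α)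
  let π : r.A.left ⟶ T' := strF z r.a ≫ eqToHom hc
  let j' : B'.left ⟶ T' := Over.homMk (gen R') rfl
  have hkπ : k.left ≫ π = j' := by
    have h1 := strF_comp z k r.a
    have h2 : strF z (z.map k ≫ r.a) = j' ≫ eqToHom hc.symm := by
      have h3 : z.map k ≫ r.a = θ ≫ m₁ := hk
      rw [h3, strF, Functor.map_comp, hθ1, e₁]
      simp
      rfl
    have h4 : k.left ≫ strF z r.a = j' ≫ eqToHom hc.symm := h1.symm.trans h2
    change k.left ≫ strF z r.a ≫ eqToHom hc = j'
    rw [← Category.assoc, h4, Category.assoc, eqToHom_trans, eqToHom_refl, Category.comp_id]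
  have hπf : IsFinite π.left := by
    have h1 : IsIso (eqToHom hc).left := inferInstanceAs (IsIso ((Over.forget S).map (eqToHom hc)))
    have h2 : π.left = (strF z r.a).left ≫ (eqToHom hc).left := rfl
    rw [h2]
    infer_instance
  have hπp : IsProper π.left := inferInstance
  obtain ⟨s, hs1, hs2⟩ := exists_section (R := R') (W := r.A.left.left) π.left k.left.left
    (congrArg CommaMorphism.left hkπ)
  refine ⟨R', inferInstance, inferInstance, inferInstance, φ, inferInstance, ψ, hψ, s ≫ r.A.hom.left, ?_, ?_⟩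
  · have h1 : r.A.hom.left ≫ Z.hom = r.A.left.hom := Over.w r.A.hom
    have h2 : π.left ≫ Spec.map (CommRingCat.ofHom φ) ≫ α = r.A.left.hom := Over.w π
    rw [Category.assoc, h1, ← h2, reassoc_of% hs1]
  · have h1 : k.left.left ≫ r.A.hom.left = gψ.left ≫ κ := congrArg CommaMorphism.left (Over.w k)
    rw [reassoc_of% hs2, h1, hgψ]

/-- **Proper scheme covers.** -/
theorem exists_proper_cover [IsNoetherian S] (h𝒳 : AlgSt.IsDM Scheme.etalePrecoverage 𝒳)
    (hsep : AlgSt.IsSeparatedOver 𝒳) (hft : AlgSt.LocQ (AlgSp.LocP @LocallyOfFiniteType) (FibCat.toSelf 𝒳))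
    (hqc : AlgSt.IsQuasiCompact 𝒳) (V₀ : Set (AlgSt.Points 𝒳)) (hV : IsOpen V₀) (hd : Dense V₀)
    (hlift : LiftStk 𝒳 V₀) :
    ∃ (B : Over S) (_ : IsProper B.hom) (y : FibCat.overCat B ⥤ᵇ 𝒳), Function.Surjective (AlgSt.Points.map y) := by
  have halg : AlgSt.IsAlgStack Scheme.etalePrecoverage 𝒳 := h𝒳.1
  have g𝒳 := halg.isStack.1
  obtain ⟨Z, z, hz, hzs⟩ := Groth.Agent.S16819.result S 𝒳 h𝒳 hsep hft hqc
  have hcont : Continuous (AlgSt.Points.ofChart z) := chartCont_of_isAlgStack halg Z z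
  have i1 : IsSeparated Z.hom := K508.ZarSt.isSeparated_hom g𝒳 hsep z hz
  have i2 : LocallyOfFiniteType Z.hom := K508.ZarSt.lft_hom halg hft z hz
  have i3 : CompactSpace ↥Z.left := K508.ZarSt.compactSpace_of_finite g𝒳 hqc z hz
  have i4 : QuasiCompact Z.hom := quasiCompact_of_compactSpace Z.hom
  let V : Z.left.Opens := ⟨AlgSt.Points.ofChart z ⁻¹' V₀, hV.preimage hcont⟩
  obtain ⟨Z₁, i, hi, hp, hcl⟩ := exists_proper Z.hom V (liftOn_of_liftStk g𝒳 hlift z hz)
  let B : Over S := Over.mk (i ≫ Z.hom)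
  let i' : B ⟶ Z := Over.homMk i rfl
  refine ⟨B, hp, BasedFunctor.comp (AlgSt.overMap i') z, ?_⟩
  rw [surjective_map_iff_surjective_ofChart]
  have hzs' : Function.Surjective (AlgSt.Points.ofChart z) :=
    (surjective_map_iff_surjective_ofChart z).1 (surjective_of_repByAlgSpWith g𝒳 (isFibGrpd_overCat Z) hzs)
  -- the image of `B` is closed
  have hclosed : IsClosed (Set.range (AlgSt.Points.ofChart (BasedFunctor.comp (AlgSt.overMap i') z))) := by
    have h1 : Set.range (AlgSt.Points.ofChart (BasedFunctor.comp (AlgSt.overMap i') z)) =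
        AlgSt.Points.map z '' (AlgSt.Points.ofChart (BasedFunctor.id (FibCat.overCat Z)) '' Set.range i) := by
      ext w
      constructor
      · rintro ⟨t, rfl⟩
        exact ⟨_, ⟨_, ⟨t, rfl⟩, rfl⟩, (ofChart_overMap i' z t).symm⟩
      · rintro ⟨_, ⟨_, ⟨t, rfl⟩, rfl⟩, rfl⟩
        exact ⟨t, ofChart_overMap i' z t⟩
    rw [h1]
    refine K508.ZarSt.isClosedMap_of_finite g𝒳 z hz _ ?_
    rw [K735.ClosedLim.isClosed_iff, Set.preimage_image_eq _ (ofChart_id_bijective Z).1]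
    exact i.isClosedEmbedding.isClosed_range
  rw [← Set.range_eq_univ, ← hclosed.closure_eq]
  refine (hd.mono ?_).closure_eq
  intro v hv
  obtain ⟨t, rfl⟩ := hzs' v
  obtain ⟨t₁, ht₁⟩ := hcl (subset_closure (show t ∈ (V : Set Z.left) from hv))
  refine ⟨t₁, ?_⟩
  rw [ofChart_overMap]
  exact congrArg _ ht₁

end

end K169.PStack
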