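import Groth.Agent.CurvSt.K169.PFMbar
import Groth.Agent.S16748
import Groth.Agent.S0981
import Groth.Agent.Flat2B.SmoothGeom
import Groth.Agent.EssDim.K995.CurveBasic

/-!
# Stable reduction for smooth curves without marked points, in the form `SRsm g 0` (helper169)
-/

set_option autoImplicit false

universe u

open CategoryTheory CategoryTheory.Limits AlgebraicGeometry Opposite CurvSt

namespace K169.SRZero

open K169.SchD K169.PFMbar

/-- `O = g_* O` for proper smooth morphisms with geometrically connected fibres. -/
theorem isIso_appTop {S G : Scheme.{u}} (g : G ⟶ S) [IsProper g] [Smooth g]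
    [GeometricallyConnected g] : IsIso g.appTop := by
  have : GeometricallyReduced g := Groth.Agent.Flat2B.SmoothGeom.geometricallyReduced_of_smooth g
  refine Groth.Agent.S0981.result g (fun K _ _ a => ⟨?_, ?_⟩) ⊤
  · exact GeometricallyReduced.geometrically_isReduced (f := g) a _ _ (.of_hasPullback _ _)
  · exact GeometricallyConnected.geometrically_connectedSpace (f := g) a _ _ (.of_hasPullback _ _)

variable {g : ℕ}

/-- A curve of genus `g` over a field, in the language of curves over fields. -/
theorem curve_data {K : Type u} [Field K] {C : Scheme.{u}} {f : C ⟶ Spec (CommRingCat.of K)}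
    (h : ModFun.IsCurveOfGenus g f) :
    Curve.IsSmoothProperCurve K C f ∧ IsIso f.appTop ∧ Models.curveGenus K C f = g := by
  have : IsProper f := h.2.1
  have : Smooth f := h.1
  have : GeometricallyIrreducible f := h.2.2.1
  have : GeometricallyConnected f := K995.CurveBasic.geometricallyConnected f
  exact ⟨⟨h.2.1, h.1, K995.CurveBasic.isIntegral h, K995.CurveBasic.dim_eq_one h⟩, isIso_appTop f,
    K995.CurveBasic.h1_eq h⟩

/-- Stable reduction for smooth curves of genus at least two. -/
theorem srsm_zero (hg : 2 ≤ g) : SRsm.{u} g 0 := by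
  intro R _ _ _ C f x hx hsm
  obtain ⟨h1, h2, h3⟩ := curve_data hsm.1
  obtain ⟨R', _, _, _, φ, ψ, hφ, hψ, -, Y, q, ⟨-, -, -, i, hi⟩, hY⟩ :=
    Groth.Agent.S16748.result R C f h1 h2 (h3 ▸ hg)
  rw [h3] at hY
  refine ⟨R', inferInstance, inferInstance, inferInstance, φ, hφ.2, ψ, hψ, Y, q, Fin.elim0, fun j => j.elim0, _,
    pullback.fst f (Spec.map (CommRingCat.ofHom ψ)), pullback.snd f (Spec.map (CommRingCat.ofHom ψ)), i, Fin.elim0,
    hY, IsPullback.of_hasPullback _ _, hi, fun j => j.elim0⟩

end K169.SRZero
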