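import Groth.Agent.CurvSt.K169.UCFinal
import Groth.Agent.CurvSt.K169.SRZero
import Groth.Agent.CurvSt.K744.DensFinal
import Groth.Agent.CurvSt.K508.SepFinal
import Groth.Agent.CurvSt.K310.ExistsCurve

/-!
# S16746 from the separatedness of the stack of unpointed stable curves (helper169)
-/

set_option autoImplicit false
set_option backward.isDefEq.respectTransparency false
set_option backward.isDefEq.respectTransparency.types false

universe u

open CategoryTheory CategoryTheory.Limits AlgebraicGeometry Opposite CurvSt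

namespace K169.Row46

/-- The complete proper family over the integers. -/
theorem pf_zero (h0 : K508.SepFinal.SepZero.{u}) {g : ℕ} (hg : 2 ≤ g) : K169.Transfer.PF.{u} g 0 :=
  K169.UCFinal.pf (by omega) (h0 g hg K169.PFMbar.SZ) (K744.DensFinal.dense_sm K169.PFMbar.SZ (by omega))
    (K169.SRZero.srsm_zero hg)

theorem main (h0 : K508.SepFinal.SepZero.{u}) (S : Scheme.{u}) (g : ℕ) (hg : 2 ≤ g) :
    AlgSt.IsAlgStack Scheme.fppfPrecoverage (CurvSt.Mbar S g 0) ∧
      AlgSt.LocQ (AlgSp.LocP @LocallyOfFiniteType) (FibCat.toSelf (CurvSt.Mbar S g 0)) ∧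
      AlgSt.IsQuasiCompactMor Scheme.fppfPrecoverage (FibCat.toSelf (CurvSt.Mbar S g 0)) ∧
      AlgSt.IsUnivClosed Scheme.fppfPrecoverage (FibCat.toSelf (CurvSt.Mbar S g 0)) ∧
      ∀ (Ω : Type u) [Field Ω] [IsAlgClosed Ω] (t : Spec (CommRingCat.of Ω) ⟶ S),
        Nonempty ((CurvSt.Mbar S g 0).p.Fiber (Over.mk t)) := by
  obtain ⟨h1, h2, h3, h4, -⟩ := K169.UCFinal.main (g := g) (n := 0) (by omega) (h0 g hg K169.PFMbar.SZ)
    (K744.DensFinal.dense_sm K169.PFMbar.SZ (by omega)) (K169.SRZero.srsm_zero hg) S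
  exact ⟨h1, h2, h3, h4, fun Ω _ _ t => K310.ExistsCurve.nonempty_Mbar_fiber t g 0 (by omega)⟩

end K169.Row46
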