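import Groth.Agent.CurvSt.K169.SRZero
import Groth.Agent.S3333

/-!
# Stable reduction for smooth pointed curves from pointed stable models (helper169)

* `StModel g n` : a smooth `n`-pointed curve of genus `g` over the fraction field of a discrete valuation ring which has
  semistable reduction has a stable pointed model over the same ring.
* `srsm_of_stModel` : with the semistable reduction theorem (S3333) this gives `SRsm g n`.
-/

set_option autoImplicit false

universe u

open CategoryTheory CategoryTheory.Limits AlgebraicGeometry Opposite CurvSt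

namespace K169.SRGen

open K169.SchD K169.PFMbar K169.SRZero

/-- Stable models of smooth pointed curves with semistable reduction. -/
def StModel (g n : ℕ) : Prop :=
  ∀ (R : Type u) [CommRing R] [IsDomain R] [IsDiscreteValuationRing R] (C : Scheme.{u})
    (f : C ⟶ Spec (CommRingCat.of (FractionRing R))), Curve.IsSmoothProperCurve (FractionRing R) C f →
    IsIso f.appTop → Models.HasSemistableReduction R C f → Models.curveGenus (FractionRing R) C f = g →
    ∀ (x : Fin n → (Spec (CommRingCat.of (FractionRing R)) ⟶ C)), (∀ j, x j ≫ f = 𝟙 _) → Function.Injective x →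
    ∃ (C' : Scheme.{u}) (f' : C' ⟶ Spec (CommRingCat.of R)) (σ : Fin n → (Spec (CommRingCat.of R) ⟶ C'))
      (hσ : ∀ j, σ j ≫ f' = 𝟙 _) (i : C ⟶ C'),
      IsStableFam f' σ hσ g ∧ IsPullback i f f' (gen R) ∧ ∀ j, x j ≫ i = gen R ≫ σ j

theorem srsm_of_stModel {g n : ℕ} (h : StModel.{u} g n) : SRsm.{u} g n := by
  intro R _ _ _ C f x hx hsm
  obtain ⟨h1, h2, h3⟩ := curve_data hsm.1
  obtain ⟨R', _, _, _, φ, ψ, hφ, hψ, -, hss⟩ := Groth.Agent.S3333.result R C f h1 h2
  let sψ := Spec.map (CommRingCat.ofHom ψ)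
  have sq : IsPullback (pullback.fst f sψ) (pullback.snd f sψ) f sψ := IsPullback.of_hasPullback _ _
  have hc : ModFun.IsCurveOfGenus g (pullback.snd f sψ) := K995.GenusField.isCurveOfGenus_of_isPullback sq hsm.1
  obtain ⟨k1, k2, k3⟩ := curve_data hc
  let y : Fin n → (Spec (CommRingCat.of (FractionRing R')) ⟶ pullback f sψ) := fun j =>
    pullback.lift (sψ ≫ x j) (𝟙 _) (by rw [Category.assoc, hx, Category.comp_id, Category.id_comp])
  have hy1 : ∀ j, y j ≫ pullback.snd f sψ = 𝟙 _ := fun j => pullback.lift_snd _ _ _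
  have hy2 : ∀ j, y j ≫ pullback.fst f sψ = sψ ≫ x j := fun j => pullback.lift_fst _ _ _
  have hinj : Function.Injective y := by
    intro j k hjk
    by_contra hne
    have h4 : sψ ≫ x j = sψ ≫ x k := by rw [← hy2, ← hy2, hjk]
    let t := IsLocalRing.closedPoint (FractionRing R')
    refine hsm.2 j k hne (sψ t) ?_
    have h5 := congrArg (fun m : Spec (CommRingCat.of (FractionRing R')) ⟶ C => m t) h4
    exact h5
  obtain ⟨C', f', σ, hσ, i, m1, m2, m3⟩ := h R' (pullback f sψ) (pullback.snd f sψ) k1 k2 hss k3 y hy1 hinj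
  exact ⟨R', inferInstance, inferInstance, inferInstance, φ, hφ.2, ψ, hψ, C', f', σ, hσ, _, _, _, i, y, m1, sq, m2,
    fun j => ⟨hy1 j, hy2 j, m3 j⟩⟩

end K169.SRGen
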