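import Groth.Agent.CurvSt.K169.SchD

/-!
# The valuative criterion with generic points in a dense open subset (helper169)
-/

set_option autoImplicit false

universe u

open CategoryTheory CategoryTheory.Limits AlgebraicGeometry

namespace K169.SepD

open K169.SchD

theorem isProper_of_dense' {I W : Scheme.{u}} [IsNoetherian W] (f : I ⟶ W) [IsSeparated f] [LocallyOfFiniteType f]
    [QuasiCompact f] (V : I.Opens) (hV : Dense (V : Set I)) (H : LiftOn f (V : Set I)) : IsProper f := by
  obtain ⟨Z, i, hi, hp, hr⟩ := exists_proper f V H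
  have hs : Surjective i := ⟨fun x => hr (hV x)⟩
  have : UniversallyClosed f := UniversallyClosed.of_comp_surjective i f
  exact { }

/-- **The valuative criterion of properness**, with generic points in a dense open subset. -/
theorem isProper_of_dense {I W : Scheme.{u}} [IsLocallyNoetherian W] (f : I ⟶ W) [IsSeparated f] [LocallyOfFiniteType f]
    [QuasiCompact f] (V : I.Opens) (hV : Dense (V : Set I)) (H : LiftOn f (V : Set I)) : IsProper f := by
  refine (IsZariskiLocalAtTarget.iff_of_iSup_eq_top (P := @IsProper) (fun U : W.affineOpens => U.1)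
    (iSup_affineOpens_eq_top W)).2 fun U => ?_
  have : IsAffine (U.1 : Scheme.{u}) := U.2
  have hUc : CompactSpace (U.1 : Scheme.{u}) := inferInstance
  have hN : IsNoetherian (U.1 : Scheme.{u}) := { }
  refine isProper_of_dense' (f ∣_ U.1) ((f ⁻¹ᵁ U.1).ι ⁻¹ᵁ V) ?_ ?_
  · exact hV.preimage (f ⁻¹ᵁ U.1).ι.isOpenEmbedding.isOpenMap
  · intro R _ _ _ α κ hκ hc
    have sq := (isPullback_morphismRestrict f U.1).flip
    obtain ⟨R', _, _, _, φ, h1, ψ, h2, β, h3, h4⟩ := H R (α ≫ U.1.ι) (κ ≫ (f ⁻¹ᵁ U.1).ι) (by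
      rintro _ ⟨s, rfl⟩
      rw [Scheme.Hom.comp_apply]
      exact hκ ⟨s, rfl⟩) (by rw [Category.assoc, ← morphismRestrict_ι, reassoc_of% hc])
    refine ⟨R', inferInstance, inferInstance, inferInstance, φ, h1, ψ, h2,
      sq.lift β (Spec.map (CommRingCat.ofHom φ) ≫ α) (by rw [h3, Category.assoc]), ?_, ?_⟩
    · exact sq.lift_snd _ _ _
    · refine (cancel_mono (f ⁻¹ᵁ U.1).ι).1 ?_
      exact (Category.assoc _ _ _).trans ((congrArg (gen R' ≫ ·) (sq.lift_fst _ _ _)).trans
        (h4.trans (Category.assoc _ _ _).symm))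

end K169.SepD
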