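import Groth.Agent.CurvSt.K169.PFMbar
import Groth.Agent.CurvSt.K45.MbarQC
import Groth.Agent.CurvSt.K896.MbarFinal

/-!
# Universal closedness of `Mbar S g n` over any base (helper169)

Inputs: separatedness and density of the smooth locus over the integers, and stable reduction of smooth pointed curves.
-/

set_option autoImplicit false
set_option backward.isDefEq.respectTransparency false
set_option backward.isDefEq.respectTransparency.types false

universe u

open CategoryTheory CategoryTheory.Limits AlgebraicGeometry Opposite CurvSt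

namespace K169.UCFinal

open K169.PFMbar K169.Transfer K508.SmLocus

variable {g n : ℕ}

theorem locQ_lft_mbar (S : Scheme.{u}) (hg : 3 ≤ 2 * g + n) :
    AlgSt.LocQ (AlgSp.LocP @LocallyOfFiniteType) (FibCat.toSelf (Mbar S g n)) := by
  obtain ⟨U, V, x, y, f, α, h1, h2, h3, h4⟩ := K896.MbarFinal.locQ_lfp_mbar S hg
  refine ⟨U, V, x, y, f, α, h1, h2, h3, fun _ _ a b k ha hb w => ?_⟩
  have : LocallyOfFinitePresentation k.left := h4 a b k ha hb w
  infer_instance

/-- The complete proper family over the integers. -/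
theorem pf (hg : 3 ≤ 2 * g + n) (hsep : AlgSt.IsSeparatedOver (Mbar SZ.{u} g n))
    (hden : Dense (Set.range (AlgSt.Points.map (AlgSt.subIncl (Mbar SZ.{u} g n) (Sm SZ.{u} g n)))))
    (h : SRsm.{u} g n) : PF.{u} g n :=
  pf_of_dense (K316.MbarAlg.isDM_mbar _ hg) hsep (locQ_lft_mbar _ hg)
    (K45.MbarQC.isQuasiCompact_mbar _ g n (K316.MbarAlg.isAlgStack_mbar _ hg)) hden h

/-- Everything in S16746 except the existence of objects, any number of marked points, any base. -/
theorem main (hg : 3 ≤ 2 * g + n) (hsep : AlgSt.IsSeparatedOver (Mbar SZ.{u} g n))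
    (hden : Dense (Set.range (AlgSt.Points.map (AlgSt.subIncl (Mbar SZ.{u} g n) (Sm SZ.{u} g n)))))
    (h : SRsm.{u} g n) (S : Scheme.{u}) :
    AlgSt.IsAlgStack Scheme.fppfPrecoverage (Mbar S g n) ∧
      AlgSt.LocQ (AlgSp.LocP @LocallyOfFiniteType) (FibCat.toSelf (Mbar S g n)) ∧
      AlgSt.IsQuasiCompactMor Scheme.fppfPrecoverage (FibCat.toSelf (Mbar S g n)) ∧
      AlgSt.IsUnivClosed Scheme.fppfPrecoverage (FibCat.toSelf (Mbar S g n)) ∧
      AlgSt.IsUnivClosed Scheme.etalePrecoverage (FibCat.toSelf (Mbar S g n)) :=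
  ⟨K316.MbarAlg.isAlgStack_mbar S hg, locQ_lft_mbar S hg,
    K898.QCFinal.isQuasiCompactMor_mbar S g n (K316.MbarAlg.isAlgStack_mbar S hg) (K45.MbarQC.openCond_stable g n),
    isUnivClosed_fppf (pf hg hsep hden h) S (K316.MbarAlg.isAlgStack_mbar S hg),
    isUnivClosed_et (pf hg hsep hden h) S (K316.MbarAlg.isAlgStack_mbar_etale S hg)⟩

end K169.UCFinal
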