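import Groth.Agent.AlgSt.K736.Spectral
import Groth.Agent.AlgSt.K735.DvrMain
import Groth.Agent.AlgSt.K741.QcqsS

/-!
# Universal closedness from a cover by a scheme universally closed over the base (helper169)

* `K169.UCov.prodChart` : for `y : overCat B ⥤ᵇ 𝒳` the chart `T ×_S B` of `T ×_S 𝒳`.
* `isUnivClosed_of_cover` : if `y : overCat B ⥤ᵇ 𝒳` is surjective on points and `B ⟶ S` is universally closed, the
  algebraic stack `𝒳` is universally closed over `S` (any base `S`).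
-/

set_option autoImplicit false
set_option backward.isDefEq.respectTransparency false
set_option backward.isDefEq.respectTransparency.types false

universe v₂ u₂ v u

open CategoryTheory CategoryTheory.Limits AlgebraicGeometry Opposite K735.Fib K735.Fp K735.Rep K735.Pts K735.PtsSp
  K735.Top K735.Cart K735.ClosedLim K735.UnivClosedDvr

namespace K169.UCov

variable {S : Scheme.{u}} {𝒳 : BasedCategory.{v₂, u₂} (Over S)}

/-- The chart `T ×_S B` of `T ×_S 𝒳` attached to a functor `y : (Sch/B) ⥤ᵇ 𝒳`. -/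
noncomputable def prodChart (T : Over S) {B : Over S} (y : FibCat.overCat B ⥤ᵇ 𝒳) :
    FibCat.overCat (K736.Spectral.prodOver T B) ⥤ᵇ FibCat.fp (FibCat.toSelf (FibCat.overCat T)) (FibCat.toSelf 𝒳) :=
  FibCat.fpLift (AlgSt.overMap (K736.Spectral.pr₁ T B))
    (BasedFunctor.comp (AlgSt.overMap (K736.Spectral.pr₂ T B)) y) (K735.Prod.selfIso _ _)

/-- The chart is surjective on points if `y` is. -/
theorem surjective_prodChart (h𝒳 : FibCat.IsFibGrpd 𝒳.p) (T : Over S) {B : Over S} (y : FibCat.overCat B ⥤ᵇ 𝒳)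
    (hy : Function.Surjective (AlgSt.Points.map y)) :
    Function.Surjective (AlgSt.Points.ofChart (prodChart T y)) := by
  intro z
  let p₂ := FibCat.fpSnd (FibCat.toSelf (FibCat.overCat T)) (FibCat.toSelf 𝒳)
  let p₁ := FibCat.fpFst (FibCat.toSelf (FibCat.overCat T)) (FibCat.toSelf 𝒳)
  have hfp : FibCat.IsFibGrpd (FibCat.fp (FibCat.toSelf (FibCat.overCat T)) (FibCat.toSelf 𝒳)).p :=
    isFibGrpd_fp (isFibGrpd_overCat T) h𝒳 isFibGrpd_selfOver _ _
  obtain ⟨β, hβ⟩ := hy (AlgSt.Points.map p₂ z)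
  obtain ⟨w, hw1, hw2⟩ := K735.Pts.exists_fp (isFibGrpd_overCat B) hfp h𝒳 p₂ y z β hβ.symm
  obtain ⟨L, _, s, ω, hω⟩ := exists_fpt_chart (isFibGrpd_fp hfp (isFibGrpd_overCat B) h𝒳 p₂ y) w
  let t : ↥(Over.mk s : Over S).left := IsLocalRing.closedPoint L
  obtain ⟨a, ⟨ia⟩⟩ := exists_iso_overMap (BasedFunctor.comp (BasedFunctor.comp ω (FibCat.fpFst p₂ y)) p₁)
  obtain ⟨b, ⟨ib⟩⟩ := exists_iso_overMap (BasedFunctor.comp ω (FibCat.fpSnd p₂ y))
  obtain ⟨c, hc1, hc2⟩ := K736.Spectral.exists_lift a b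
  obtain ⟨m₁⟩ := K745.Lift.exists_overMapComp c (K736.Spectral.pr₁ T B)
  obtain ⟨m₂⟩ := K745.Lift.exists_overMapComp c (K736.Spectral.pr₂ T B)
  rw [hc1] at m₁
  rw [hc2] at m₂
  have key : BasedFunctor.comp (AlgSt.overMap c) (prodChart T y) ≅ BasedFunctor.comp ω (FibCat.fpFst p₂ y) :=
    K735.Prod.prodExt
      (m₁ ≪≫ ia.symm : BasedFunctor.comp (AlgSt.overMap c) (AlgSt.overMap (K736.Spectral.pr₁ T B)) ≅
        BasedFunctor.comp (BasedFunctor.comp ω (FibCat.fpFst p₂ y)) p₁)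
      ((whiskerRightIso m₂ y : BasedFunctor.comp (AlgSt.overMap c)
          (BasedFunctor.comp (AlgSt.overMap (K736.Spectral.pr₂ T B)) y) ≅ BasedFunctor.comp (AlgSt.overMap b) y) ≪≫
        (whiskerRightIso ib.symm y : BasedFunctor.comp (AlgSt.overMap b) y ≅
          BasedFunctor.comp (BasedFunctor.comp ω (FibCat.fpSnd p₂ y)) y) ≪≫
        (whiskerLeftIso ω (FibCat.fpIso p₂ y).symm : BasedFunctor.comp ω (BasedFunctor.comp (FibCat.fpSnd p₂ y) y) ≅
          BasedFunctor.comp ω (BasedFunctor.comp (FibCat.fpFst p₂ y) p₂)))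
  refine ⟨c.left t, ?_⟩
  rw [← ofChart_overMap, ofChart_congr key, ← map_ofChart, hω t, hw1]

/-- A morphism to a slice with a surjective continuous chart closed over the base of the slice is closed on points. -/
theorem isClosedMap_of_chart {𝒢 : BasedCategory.{v₂, u₂} (Over S)} {T U : Over S} {p : 𝒢 ⥤ᵇ FibCat.overCat T}
    {x : FibCat.overCat U ⥤ᵇ 𝒢} {q : U ⟶ T} (θ : BasedFunctor.comp x p ≅ AlgSt.overMap q)
    (hcont : Continuous (AlgSt.Points.ofChart x)) (hs : Function.Surjective (AlgSt.Points.ofChart x))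
    (hq : IsClosedMap q.left) : IsClosedMap (AlgSt.Points.map p) := by
  intro D hD
  rw [isClosed_iff]
  have h1 : AlgSt.Points.ofChart (BasedFunctor.id (FibCat.overCat T)) ⁻¹' (AlgSt.Points.map p '' D) =
      q.left '' (AlgSt.Points.ofChart x ⁻¹' D) := by
    ext t
    constructor
    · rintro ⟨z, hz, hzt⟩
      obtain ⟨u, rfl⟩ := hs z
      rw [map_ofChart_over θ] at hzt
      exact ⟨u, hz, (ofChart_id_bijective T).1 hzt⟩
    · rintro ⟨u, hu, rfl⟩
      exact ⟨_, hu, map_ofChart_over θ u⟩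
  rw [h1]
  exact hq _ (hD.preimage hcont)

/-- If the base changes of `f : 𝒳 ⥤ᵇ 𝒴` to all schemes over `𝒴` are closed on points, `f` is universally closed. -/
theorem isUnivClosed_of_schemes {K : Precoverage Scheme.{u}} {𝒳 𝒴 : AlgSt.Cat S} (h𝒳 : AlgSt.IsAlgStack K 𝒳)
    (h𝒴 : FibCat.IsFibGrpd 𝒴.p) {f : 𝒳 ⥤ᵇ 𝒴}
    (hfp : ∀ (𝒵 : AlgSt.Cat S), AlgSt.IsAlgStack K 𝒵 → ∀ (g : 𝒵 ⥤ᵇ 𝒴), ChartCont (FibCat.fp g f))
    (H : ∀ (T : Over S) (v : FibCat.overCat T ⥤ᵇ 𝒴), IsClosedMap (AlgSt.Points.map (FibCat.fpFst v f))) :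
    AlgSt.IsUnivClosed K f := by
  intro 𝒵 h𝒵 g D hD
  rw [← isOpen_compl_iff]
  intro T w _
  have h1 := preimage_image_fp h𝒳.isStack.1 h𝒴 h𝒵.isStack.1 g f w D
  rw [Set.preimage_compl, h1, isOpen_compl_iff, ← isClosed_iff]
  exact H T _ _ (hD.preimage (continuous_map (hfp 𝒵 h𝒵 g) _))

/-- The fibre products with a scheme over the base have continuous charts. -/
theorem chartCont_fp {K : Precoverage Scheme.{u}} (hself : Stk.IsPrestack (QuotSh.J K S) (FibCat.selfOver (Over S)))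
    {𝒳 : AlgSt.Cat S} (h𝒳 : AlgSt.IsAlgStack K 𝒳) (𝒵 : AlgSt.Cat S) (h𝒵 : AlgSt.IsAlgStack K 𝒵)
    (g : 𝒵 ⥤ᵇ FibCat.selfOver (Over S)) : ChartCont (FibCat.fp g (FibCat.toSelf 𝒳)) :=
  chartCont_of_isAlgStack (K734.Rep.isAlgStack_fp hself K734.Rep.repByAlgSp1_diag_selfOver h𝒵 h𝒳 g (FibCat.toSelf 𝒳))

/-- An algebraic stack over any base with a surjective functor from a scheme universally closed over the base is
universally closed over the base. -/
theorem isUnivClosed_of_cover {K : Precoverage Scheme.{u}}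
    (hself : Stk.IsPrestack (QuotSh.J K S) (FibCat.selfOver (Over S)))
    (hov : ∀ V : Over S, AlgSt.IsAlgStack K (FibCat.overCat V)) {𝒳 : AlgSt.Cat S} (h𝒳 : AlgSt.IsAlgStack K 𝒳)
    {B : Over S} (hB : UniversallyClosed B.hom) (y : FibCat.overCat B ⥤ᵇ 𝒳)
    (hy : Function.Surjective (AlgSt.Points.map y)) : AlgSt.IsUnivClosed K (FibCat.toSelf 𝒳) := by
  refine isUnivClosed_of_schemes h𝒳 isFibGrpd_selfOver (chartCont_fp hself h𝒳) fun T v => ?_
  obtain rfl := K741.eq_toSelf v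
  refine isClosedMap_of_chart (x := prodChart T y) (q := K736.Spectral.pr₁ T B) (Iso.refl _) ?_
    (surjective_prodChart h𝒳.isStack.1 T y hy) ?_
  · exact chartCont_fp hself h𝒳 _ (hov T) _ _ _
  · have : UniversallyClosed (pullback.fst T.hom B.hom) := inferInstance
    exact (pullback.fst T.hom B.hom).isClosedMap

end K169.UCov
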